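import Mathlib
import Cfsg.Agent.Lib.CosetTable.Check

/-! Generated certificate data for the coset table `ONLevel1`. -/

namespace Cfsg.Agent.Lib.CosetTable.ONLevel1

open Cfsg.Agent.Lib.CosetTable

set_option maxRecDepth 10000

noncomputable def facts : T := .leaf 0x8000041000004000040000000000021000000000000000000000003

noncomputable def defs : T := .leaf 0x20000000000001000000000000

noncomputable def nodeT : ℕ := 0x2000001000000

noncomputable def parT : ℕ := 0x20000001000000

noncomputable def perm0 : ℕ := 0x100020000

noncomputable def eid0 : ℕ := 0x3000003000001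

noncomputable def perm1 : ℕ := 0x200000001

noncomputable def eid1 : ℕ := 0x4000002000002

noncomputable def rulesT : RT := .node (.leaf 0 [3] 6 0) (.leaf 1 [0, 1, 0, 1, 0] 1 0)

noncomputable def relsL : List (List ℕ) := [[0, 0],
  [0, 1, 0, 1, 0, 1],
  [1, 1]]

noncomputable def subsL : List (List ℕ) := [[0]]

noncomputable def cert : Cert where
  k := 2
  rels := relsL
  subs := subsL
  rules := rulesT
  facts := facts
  defs := defs

noncomputable def tab : Table where
  n := 3
  k := 2
  node := nodeT
  perms := [perm0, perm1]
  eids := [eid0, eid1]
  par := parT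

end Cfsg.Agent.Lib.CosetTable.ONLevel1
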