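import Cfsg.Agent.Lib.CosetTable.Sound
import Cfsg.Agent.Lib.CosetTable.ONLevel1.Data

/-! Generated certificate data for the coset table `ONLevel1`. -/

namespace Cfsg.Agent.Lib.CosetTable.ONLevel1

open Cfsg.Agent.Lib.CosetTable

noncomputable def streams0 : List (ℕ × ℕ) := [(5, 0x6000004000002000005000007000005000003000000000000000000000000000000000001000002000000000001)]

theorem run0 : cert.goStreams streams0 0 = true := by decide +kernel

theorem part1 (h : cert.Upto 0) : cert.Upto 5 :=
  (h).step (b := 5) run0 rfl

end Cfsg.Agent.Lib.CosetTable.ONLevel1
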